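import Groth.Agent.H30.LocZ.SectLC
import Groth.Agent.H30.LocZ.OpenSeq
import Groth.Prelude.Def_Coh
import Groth.Agent.Lib.SiteCmp29.GammaZ
import Mathlib.AlgebraicGeometry.Modules.Sheaf

/-!
# `Γ_Z` of an `O_Y`-module for `Z = V ∖ W`, module form
-/

set_option autoImplicit false
set_option linter.style.haveILetI false

universe u

open CategoryTheory Limits Opposite TopologicalSpace AlgebraicGeometry

namespace Groth.Agent.Lib.LocCohLC.Supp

variable {Y : Scheme.{u}} {V₂ V₁ : Y.Opens} (h : V₂ ≤ V₁)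

/-- Underlying abelian sheaf. -/
noncomputable abbrev ab (Y : Scheme.{u}) : Y.Modules ⥤ CohTop.Ab Y.carrier :=
  SheafOfModules.toSheaf Y.ringCatSheaf

instance ab_additive : (ab Y).Additive :=
  inferInstanceAs (SheafOfModules.toSheaf Y.ringCatSheaf).Additive

instance ab_preservesFiniteLimits : PreservesFiniteLimits (ab Y) :=
  inferInstanceAs (PreservesFiniteLimits (SheafOfModules.toSheaf Y.ringCatSheaf))

instance ab_preservesFiniteColimits : PreservesFiniteColimits (ab Y) :=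
  inferInstanceAs (PreservesFiniteColimits (SheafOfModules.toSheaf Y.ringCatSheaf))

lemma map_map (F : (Opens Y.carrier)ᵒᵖ ⥤ AddCommGrpCat.{u}) {A B C : (Opens Y.carrier)ᵒᵖ}
    (a : A ⟶ B) (b : B ⟶ C) (c : A ⟶ C) (s : F.obj A) : F.map b (F.map a s) = F.map c s := by
  rw [Subsingleton.elim c (a ≫ b), F.map_comp]
  rfl

lemma vanish (F : (Opens Y.carrier)ᵒᵖ ⥤ AddCommGrpCat.{u}) {A C D : (Opens Y.carrier)ᵒᵖ}
    (a : A ⟶ C) (d : C ⟶ D) (c : A ⟶ D) (s : F.obj A) (hs : F.map a s = 0) : F.map c s = 0 := by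
  rw [← map_map F a d c s, hs, map_zero]

/-- `M ↦ j_* j^* M` for `j : V → Y`. -/
noncomputable abbrev T (V : Y.Opens) : Y.Modules ⥤ Y.Modules :=
  Scheme.Modules.restrictFunctor V.ι ⋙ Scheme.Modules.pushforward V.ι

/-- `K M = ker (j₁_* j₁^* M → j₂_* j₂^* j₁_* j₁^* M)`. -/
noncomputable abbrev K (V₂ V₁ : Y.Opens) : Y.Modules ⥤ Y.Modules :=
  T V₁ ⋙ DCoh.gammaZ V₂.ι

/-- The inclusion `K M → j₁_* j₁^* M`. -/
noncomputable def ι : K V₂ V₁ ⟶ T V₁ where
  app _ := kernel.ι _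
  naturality _ _ _ := kernel.lift_ι _ _ _

/-- The inclusion `Γ_Z G → (G|_V)` pushed forward. -/
noncomputable def θ (M : Y.Modules) :
    (SuppFam.sectSuppLC (X := Y.carrier) h).obj ((ab Y).obj M) ⟶ (ab Y).obj ((T V₁).obj M) :=
  (CohTop.push (CohCx.incl V₁)).map
    ((H30.LocZ.OpenSeq.ι (SuppFam.inOpen V₁ V₂)).app ((CohTop.restrFunctor V₁).obj ((ab Y).obj M)))

lemma θ_mono (M : Y.Modules) : Mono (θ h M) := by
  haveI : PreservesLimitsOfSize.{0, 0} (CohTop.push (CohCx.incl (X := Y.carrier) V₁)) :=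
    (TopCat.Sheaf.pullbackPushforwardAdjunction AddCommGrpCat.{u}
      (CohCx.incl (X := Y.carrier) V₁)).rightAdjoint_preservesLimits
  haveI : Mono ((H30.LocZ.OpenSeq.ι (SuppFam.inOpen V₁ V₂)).app
      ((CohTop.restrFunctor V₁).obj ((ab Y).obj M))) := equalizer.ι_mono
  exact (CohTop.push (CohCx.incl V₁)).map_mono _

/-- The restriction map of `j₁_* j₁^* M` to `V₂`. -/
noncomputable abbrev r (M : Y.Modules) :
    (ab Y).obj ((T V₁).obj M) ⟶ (ab Y).obj ((T V₂).obj ((T V₁).obj M)) :=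
  (ab Y).map ((Scheme.Modules.restrictAdjunction V₂.ι).unit.app ((T V₁).obj M))

include h in
lemma img_eq (O : Y.Opens) :
    V₁.ι ''ᵁ (V₁.ι ⁻¹ᵁ (V₂.ι ''ᵁ (V₂.ι ⁻¹ᵁ O))) = V₂ ⊓ O := by
  ext x
  constructor
  · rintro ⟨y, ⟨z, hz, e⟩, rfl⟩
    exact ⟨e ▸ z.2, e ▸ hz⟩
  · rintro ⟨hx, hxO⟩
    exact ⟨⟨x, h hx⟩, ⟨⟨x, hx⟩, hxO, rfl⟩, rfl⟩

lemma r_app (M : Y.Modules) (O : Y.Opens) (s : ((ab Y).obj ((T V₁).obj M)).obj.obj (op O)) :
    (r (V₂ := V₂) M).hom.app (op O) s =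
      ((ab Y).obj M).obj.map (homOfLE (V₁.ι.opensFunctor.monotone
        (V₁.ι.preimage_mono (V₂.ι.image_preimage_le O)))).op s := rfl

lemma val_eq (M : Y.Modules) (O : Y.Opens)
    (x : ((SuppFam.sectSuppLC (X := Y.carrier) h).obj ((ab Y).obj M)).obj.obj (op O)) :
    H30.LocZ.SectLC.val h ((ab Y).obj M) O x =
      ((ab Y).obj M).obj.map (eqToHom (H30.LocZ.SectLC.img_tr (V := V₁) O).symm).op
        ((θ h M).hom.app (op O) x) := rfl

lemma θ_r (M : Y.Modules) : θ h M ≫ r (V₂ := V₂) M = 0 := by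
  refine CategoryTheory.Sheaf.hom_ext (NatTrans.ext (funext fun O => ?_))
  ext x
  have hv : ((ab Y).obj M).obj.map (homOfLE (inf_le_inf_right O.unop h)).op
      (H30.LocZ.SectLC.val h ((ab Y).obj M) O.unop x) = 0 :=
    H30.LocZ.SectLC.val_mem h ((ab Y).obj M) O.unop x
  rw [val_eq] at hv
  let s : ((ab Y).obj M).obj.obj (op (V₁.ι ''ᵁ (V₁.ι ⁻¹ᵁ O.unop))) :=
    (θ h M).hom.app (op O.unop) x
  let a : op (V₁.ι ''ᵁ (V₁.ι ⁻¹ᵁ O.unop)) ⟶ op (V₂ ⊓ O.unop) :=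
    (homOfLE ((img_eq h O.unop).ge.trans (V₁.ι.opensFunctor.monotone
      (V₁.ι.preimage_mono (V₂.ι.image_preimage_le O.unop))))).op
  have h0 : ((ab Y).obj M).obj.map a s = 0 :=
    (map_map ((ab Y).obj M).obj _ _ a s).symm.trans hv
  have h1 := vanish ((ab Y).obj M).obj a (eqToHom (img_eq h O.unop)).op
    (homOfLE (V₁.ι.opensFunctor.monotone (V₁.ι.preimage_mono (V₂.ι.image_preimage_le O.unop)))).op s h0
  exact h1

lemma exists_θ_eq (M : Y.Modules) (O : Y.Opens) (s : ((ab Y).obj ((T V₁).obj M)).obj.obj (op O))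
    (hs : (r (V₂ := V₂) M).hom.app (op O) s = 0) : ∃ x, (θ h M).hom.app (op O) x = s := by
  let e := eqToHom (H30.LocZ.SectLC.img_tr (V := V₁) O).symm
  rw [r_app] at hs
  have hmem : ((ab Y).obj M).obj.map e.op s ∈
      LocCohZ.sectZ ((ab Y).obj M) (inf_le_inf_right O h) := by
    show ((ab Y).obj M).obj.map (homOfLE (inf_le_inf_right O h)).op _ = 0
    let s' : ((ab Y).obj M).obj.obj (op (V₁.ι ''ᵁ (V₁.ι ⁻¹ᵁ O))) := s
    let a : op (V₁.ι ''ᵁ (V₁.ι ⁻¹ᵁ O)) ⟶ op (V₂ ⊓ O) :=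
      (homOfLE ((img_eq h O).ge.trans (V₁.ι.opensFunctor.monotone
        (V₁.ι.preimage_mono (V₂.ι.image_preimage_le O))))).op
    let c : op (V₁.ι ''ᵁ (V₁.ι ⁻¹ᵁ O)) ⟶ op (V₁.ι ''ᵁ (V₁.ι ⁻¹ᵁ (V₂.ι ''ᵁ (V₂.ι ⁻¹ᵁ O)))) :=
      (homOfLE (V₁.ι.opensFunctor.monotone (V₁.ι.preimage_mono (V₂.ι.image_preimage_le O)))).op
    exact (map_map ((ab Y).obj M).obj _ _ a s').trans
      (vanish ((ab Y).obj M).obj c (eqToHom (img_eq h O).symm).op a s' hs)
  obtain ⟨x, hx⟩ := H30.LocZ.SectLC.exists_val_eq h ((ab Y).obj M) O ⟨_, hmem⟩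
  rw [val_eq] at hx
  exact ⟨x, ((ConcreteCategory.isIso_iff_bijective _).1
    (inferInstance : IsIso (((ab Y).obj M).obj.map e.op))).1 hx⟩

/-- The comparison `Γ_Z (ab M) ⟶ ab (K M)`. -/
noncomputable def cmp (M : Y.Modules) :
    (SuppFam.sectSuppLC (X := Y.carrier) h).obj ((ab Y).obj M) ⟶ (ab Y).obj ((K V₂ V₁).obj M) :=
  kernel.lift (r (V₂ := V₂) M) (θ h M) (θ_r h M) ≫
    (PreservesKernel.iso (ab Y) _).inv

lemma cmp_ι (M : Y.Modules) : cmp h M ≫ (ab Y).map ((ι (V₂ := V₂) (V₁ := V₁)).app M) = θ h M := by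
  refine (Category.assoc _ _ _).trans ?_
  exact (congrArg (kernel.lift (r (V₂ := V₂) M) (θ h M) (θ_r h M) ≫ ·)
    (PreservesKernel.iso_inv_ι (ab Y) _)).trans (kernel.lift_ι _ _ _)

lemma isIso_cmp (M : Y.Modules) : IsIso (cmp h M) := by
  haveI := θ_mono h M
  haveI : Mono (cmp h M ≫ (ab Y).map ((ι (V₂ := V₂) (V₁ := V₁)).app M)) := by
    rw [cmp_ι]; infer_instance
  haveI : Mono (cmp h M) := mono_of_mono _ ((ab Y).map ((ι (V₂ := V₂) (V₁ := V₁)).app M))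
  haveI : Mono ((ι (V₂ := V₂) (V₁ := V₁)).app M) := equalizer.ι_mono
  haveI hm : Mono ((ab Y).map ((ι (V₂ := V₂) (V₁ := V₁)).app M)) := (ab Y).map_mono _
  let P := sheafToPresheaf (Opens.grothendieckTopology Y.carrier) AddCommGrpCat.{u}
  haveI : IsIso (P.map (cmp h M)) := by
    haveI : ∀ O, IsIso ((P.map (cmp h M)).app O) := fun O => by
      refine (ConcreteCategory.isIso_iff_bijective _).2 ⟨?_, fun t => ?_⟩
      · haveI : Mono ((P.map (cmp h M)).app O) := inferInstance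
        exact (AddCommGrpCat.mono_iff_injective _).1 inferInstance
      · haveI : Mono ((P.map ((ab Y).map ((ι (V₂ := V₂) (V₁ := V₁)).app M))).app O) := inferInstance
        have hinj : Function.Injective ((P.map ((ab Y).map ((ι (V₂ := V₂) (V₁ := V₁)).app M))).app O) :=
          (AddCommGrpCat.mono_iff_injective _).1 inferInstance
        obtain ⟨x, hx⟩ := exists_θ_eq h M O.unop
          ((P.map ((ab Y).map ((ι (V₂ := V₂) (V₁ := V₁)).app M))).app O t) (by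
            refine (ConcreteCategory.comp_apply _ _ _).symm.trans ?_
            exact ConcreteCategory.congr_hom (congrArg (fun a => (P.map a).app O)
              (((ab Y).map_comp _ _).symm.trans ((congrArg (ab Y).map (kernel.condition _)).trans
                ((ab Y).map_zero _ _)))) t)
        refine ⟨x, hinj ?_⟩
        rw [← hx, ← cmp_ι h M]
        rfl
    exact NatIso.isIso_of_isIso_app _
  exact isIso_of_reflects_iso _ P

set_option maxHeartbeats 800000 in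
lemma push_restr_map {M N : Y.Modules} (φ : M ⟶ N) :
    ((CohTop.push (CohCx.incl (X := Y.carrier) V₁)).map
      ((CohTop.restrFunctor (X := Y.carrier) V₁).map ((ab Y).map φ))) =
      ((ab Y).map ((T V₁).map φ) : (ab Y).obj ((T V₁).obj M) ⟶ (ab Y).obj ((T V₁).obj N)) :=
  CategoryTheory.Sheaf.hom_ext (NatTrans.ext (funext fun _ => rfl))

set_option maxHeartbeats 800000 in
lemma θ_naturality {M N : Y.Modules} (φ : M ⟶ N) :
    (SuppFam.sectSuppLC h).map ((ab Y).map φ) ≫ θ h N = θ h M ≫ (ab Y).map ((T V₁).map φ) := by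
  refine Eq.trans ?_ (congrArg (θ h M ≫ ·) (push_restr_map (V₁ := V₁) φ))
  refine ((CohTop.push (CohCx.incl (X := Y.carrier) V₁)).map_comp
    ((LocCohZ.sectSuppF (SuppFam.inOpen V₁ V₂)).map ((CohTop.restrFunctor V₁).map ((ab Y).map φ)))
    ((H30.LocZ.OpenSeq.ι (SuppFam.inOpen V₁ V₂)).app ((CohTop.restrFunctor V₁).obj ((ab Y).obj N)))).symm.trans ?_
  refine (congrArg (CohTop.push (CohCx.incl (X := Y.carrier) V₁)).map
        ((H30.LocZ.OpenSeq.ι (SuppFam.inOpen V₁ V₂)).naturality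
          ((CohTop.restrFunctor V₁).map ((ab Y).map φ)))).trans ?_
  exact (CohTop.push (CohCx.incl (X := Y.carrier) V₁)).map_comp _ _

lemma cmp_naturality {M N : Y.Modules} (φ : M ⟶ N) :
    (SuppFam.sectSuppLC h).map ((ab Y).map φ) ≫ cmp h N =
      cmp h M ≫ (ab Y).map ((K V₂ V₁).map φ) := by
  haveI : Mono ((ι (V₂ := V₂) (V₁ := V₁)).app N) := equalizer.ι_mono
  haveI : Mono ((ab Y).map ((ι (V₂ := V₂) (V₁ := V₁)).app N)) := (ab Y).map_mono _
  rw [← cancel_mono ((ab Y).map ((ι (V₂ := V₂) (V₁ := V₁)).app N))]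
  rw [Category.assoc, Category.assoc, cmp_ι, ← (ab Y).map_comp,
    (ι (V₂ := V₂) (V₁ := V₁)).naturality φ, (ab Y).map_comp, ← Category.assoc, cmp_ι]
  exact θ_naturality h φ

/-- `Γ_Z ∘ ab ≅ ab ∘ K`. -/
noncomputable def natIso :
    ab Y ⋙ SuppFam.sectSuppLC (X := Y.carrier) h ≅ K V₂ V₁ ⋙ ab Y :=
  NatIso.ofComponents (fun M => @asIso _ _ _ _ (cmp h M) (isIso_cmp h M))
    fun φ => cmp_naturality h φ

end Groth.Agent.Lib.LocCohLC.Supp
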